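import Cfsg.Agent.Lib.Chars.Basic
import Mathlib

/-!
# Eigenvalue exponents of an element with `x ^ m = 1`
-/

set_option autoImplicit false

namespace Cfsg.Agent.Lib.EigenExp

open scoped ComplexConjugate
open ZMod (stdAddChar)

universe u v

variable {G : Type u} [Group G] {V : Type v} [AddCommGroup V] [Module ℂ V] [FiniteDimensional ℂ V]
  (ρ : Representation ℂ G V)

theorem stdAddChar_natCast_mul {m : ℕ} [NeZero m] (k : ℕ) (a : ZMod m) :
    stdAddChar ((k : ZMod m) * a) = stdAddChar a ^ k := by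
  rw [← nsmul_eq_mul, AddChar.map_nsmul_eq_pow]

theorem exists_stdAddChar_eq {m : ℕ} [NeZero m] {z : ℂ} (hz : z ^ m = 1) :
    ∃ a : ZMod m, stdAddChar a = z := by
  have h : stdAddChar ((1 : ℤ) : ZMod m) = Complex.exp (2 * Real.pi * Complex.I / m) := by
    rw [ZMod.stdAddChar_coe]; simp
  obtain ⟨i, -, rfl⟩ := (Complex.isPrimitiveRoot_exp m (NeZero.ne m)).eq_pow_of_pow_eq_one hz
  exact ⟨(i : ZMod m), by rw [← h, ← stdAddChar_natCast_mul]; simp⟩

/-- An eigenbasis with the eigenvalues written as values of the standard additive character. -/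
theorem exists_eigen_exponents {m : ℕ} [NeZero m] (x : G) (hx : x ^ m = 1) :
    ∃ (ι : Type) (_ : Fintype ι) (b : Module.Basis ι ℂ V) (c : ι → ZMod m),
      ∀ (k : ℕ) (i : ι), ρ (x ^ k) (b i) = stdAddChar ((k : ZMod m) * c i) • b i := by
  obtain ⟨ι, hι, b, μ, hm, hb⟩ := Chars.exists_eigenbasis_of_pow_eq_one (ρ x)
    (Nat.pos_of_ne_zero (NeZero.ne m)) (by rw [← map_pow, hx, map_one])
  choose c hc using fun i => exists_stdAddChar_eq (m := m) (hm i)
  refine ⟨ι, hι, b, c, fun k i => ?_⟩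
  rw [stdAddChar_natCast_mul, hc]
  induction k with
  | zero => simp
  | succ k ih => rw [pow_succ', map_mul, Module.End.mul_apply, ih, map_smul, hb, smul_smul,
      ← pow_succ]

theorem char_pow_eq_sum {m : ℕ} [NeZero m] {x : G} {ι : Type} [Fintype ι]
    {b : Module.Basis ι ℂ V} {c : ι → ZMod m}
    (h : ∀ (k : ℕ) (i : ι), ρ (x ^ k) (b i) = stdAddChar ((k : ZMod m) * c i) • b i) (k : ℕ) :
    ρ.character (x ^ k) = ∑ i, stdAddChar ((k : ZMod m) * c i) :=
  Chars.trace_eq_sum_of_eigenbasis _ b _ (h k)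

theorem pow_val_mul {m : ℕ} [NeZero m] {x : G} (hx : x ^ m = 1) (a b : ZMod m) :
    x ^ (a * b).val = (x ^ a.val) ^ b.val := by
  rw [← pow_mul, ZMod.val_mul, ← pow_eq_pow_mod (a.val * b.val) hx]

theorem pow_val_natCast {m : ℕ} [NeZero m] {x : G} (hx : x ^ m = 1) (k : ℕ) :
    x ^ (k : ZMod m).val = x ^ k := by
  rw [ZMod.val_natCast, ← pow_eq_pow_mod k hx]

/-- The multiplicity of an exponent, by Fourier inversion. -/
theorem card_mul_multiplicity {m : ℕ} [NeZero m] {ι : Type} [Fintype ι] (c : ι → ZMod m)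
    (a : ZMod m) :
    (∑ k : ZMod m, stdAddChar (-(k * a)) * ∑ i, stdAddChar (k * c i)) =
      (m : ℂ) * (Finset.univ.filter fun i => c i = a).card := by
  simp only [Finset.mul_sum, ← AddChar.map_add_eq_mul]
  rw [Finset.sum_comm]
  have : ∀ i, (∑ k : ZMod m, stdAddChar (-(k * a) + k * c i)) =
      if c i = a then (m : ℂ) else 0 := by
    intro i
    rw [Finset.sum_congr rfl (fun (k : ZMod m) _ =>
      show stdAddChar (-(k * a) + k * c i) = stdAddChar (k * (c i - a)) by congr 1; ring),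
      AddChar.sum_mulShift _ (ZMod.isPrimitive_stdAddChar m)]
    by_cases h : c i = a
    · simp [h, ZMod.card]
    · simp [h, sub_eq_zero]
  simp only [this, Finset.sum_ite, Finset.sum_const_zero, add_zero, Finset.sum_const, nsmul_eq_mul]
  ring

/-- Parseval. -/
theorem sum_mul_conj_eq {m : ℕ} [NeZero m] {ι : Type} [Fintype ι] (c : ι → ZMod m) :
    (∑ k : ZMod m, (∑ i, stdAddChar (k * c i)) * conj (∑ i, stdAddChar (k * c i))) =
      (m : ℂ) * ∑ a : ZMod m, ((Finset.univ.filter fun i => c i = a).card : ℂ) ^ 2 := by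
  classical
  have key : ∀ k : ZMod m, conj (∑ i, stdAddChar (k * c i)) =
      ∑ a : ZMod m, ((Finset.univ.filter fun i => c i = a).card : ℂ) * stdAddChar (-(k * a)) := by
    intro k
    rw [map_sum, ← Finset.sum_fiberwise Finset.univ c]
    refine Finset.sum_congr rfl fun a _ => ?_
    rw [Finset.sum_congr rfl (fun i hi => by
      rw [← AddChar.map_neg_eq_conj, (Finset.mem_filter.mp hi).2]), Finset.sum_const, nsmul_eq_mul]
  simp only [key, Finset.mul_sum]
  rw [Finset.sum_comm]
  refine Finset.sum_congr rfl fun a _ => ?_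
  calc (∑ k : ZMod m, (∑ i, stdAddChar (k * c i)) *
        (((Finset.univ.filter fun i => c i = a).card : ℂ) * stdAddChar (-(k * a))))
      = ((Finset.univ.filter fun i => c i = a).card : ℂ) *
        ∑ k : ZMod m, stdAddChar (-(k * a)) * ∑ i, stdAddChar (k * c i) := by
        rw [Finset.mul_sum]; exact Finset.sum_congr rfl fun k _ => by ring
    _ = _ := by rw [card_mul_multiplicity]; ring

end Cfsg.Agent.Lib.EigenExp
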